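import Groth.Agent.Fano.K505.KonDef

/-!
# Definitions for linear charts (S16940)

* `IsBasis f L ε`: the sections `ε` of `L` are a basis over the functions on the base, after every base change;
* `dI y a`: the ideal of the divisor `Σ_j a_j y_j` of the sections `y_j`;
* `IsO D L s`: `(L, s)` is `(O(D), 1)`: `L` is invertible and the zero scheme of the section `s` is `D`;
* `Triv3 A V L`: every component of a geometric fibre over `V` on which `L` is generated by one section has three special points.
-/

set_option autoImplicit false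

universe u

open CategoryTheory CategoryTheory.Limits AlgebraicGeometry

namespace K723.LinDef

open K390.PnSec Groth.Agent.Fdesc.LocGen K188.LineDef K745.ConDef K505.KonDef

/-- The sections `ε` of `L` are a basis of the sections over the functions on the base, after every base change. -/
def IsBasis {C T : Scheme.{u}} (f : C ⟶ T) (L : C.Modules) {h : ℕ} (ε : Fin h → Γ(L, ⊤)) : Prop :=
  ∀ {T' C' : Scheme.{u}} (i : C' ⟶ C) (f' : C' ⟶ T') (g : T' ⟶ T), IsPullback i f' f g →
    ∀ s : Γ((Scheme.Modules.pullback i).obj L, ⊤), ∃! a : Fin h → Γ(T', ⊤),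
      s = ∑ j, (f'.appTop (a j)) • pullTop i (ε j)

/-- The ideal of the divisor `Σ_j a_j y_j`. -/
noncomputable def dI {C T : Scheme.{u}} {m : ℕ} (y : Fin m → (T ⟶ C)) (a : Fin m → ℕ) : C.IdealSheafData :=
  ∏ j, (y j).ker ^ a j

/-- `(L, s)` is `(O(D), 1)`. -/
structure IsO {C : Scheme.{u}} (D : C.IdealSheafData) (L : C.Modules) (s : Γ(L, ⊤)) : Prop where
  inv : PicF.IsInvertible L
  ideal : ∀ (V : C.affineOpens) (e : Γ(L, V.1)) (b : Γ(C, V.1)), IsGen e → res L le_top s = b • e →
    D.ideal V = Ideal.span {b}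

/-- Every component of a geometric fibre over `V` on which `L` is generated by one section has three special points (points on
other components, or one of the first `r` marked points). -/
def Triv3 {S : Scheme.{u}} {r m : ℕ} (A : CurvSt.PtFamObj S (r + m)) (V : A.base.left.Opens) (L : A.C.Modules) : Prop :=
  ∀ (Ω : Type u) [Field Ω] [IsAlgClosed Ω] (t : Spec (CommRingCat.of Ω) ⟶ A.base.left) (Xt : Scheme.{u})
    (i : Xt ⟶ A.C) (q : Xt ⟶ Spec (CommRingCat.of Ω)) (hP : IsPullback i q A.f t) (E : Set Xt),
    t (IsLocalRing.closedPoint Ω) ∈ V →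
    CurvSt.IsSmRatComp Ω Xt q E →
    (∃ s : Γ((Scheme.Modules.pullback i).obj L, ⊤), E ⊆ (CohB1.genLocus _ (homOf s) : Set Xt)) →
    (3 : ℕ∞) ≤ (CurvSt.meetPts Xt E).encard +
      (Nat.card {j : Fin r // CurvSt.markedPt A.sect A.sect_f hP (Fin.castAdd m j) ∈ E} : ℕ∞)

/-- The sections `y` of a family with `r + m` sections. -/
abbrev ys {S : Scheme.{u}} {r m : ℕ} (A : CurvSt.PtFamObj S (r + m)) (j : Fin m) : A.base.left ⟶ A.C :=
  A.sect (Fin.natAdd r j)

end K723.LinDef
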