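import Groth.Agent.Fano.K723.Fin40
import Groth.Agent.Fano.K791.HonBase2
import Groth.Agent.Fano.K384.HonLine

/-!
# The input from the chart of the maps from the projective line (S16940)

`honInput`: `HonInput` for a good form, from the slice.
-/

set_option autoImplicit false
universe u

open CategoryTheory CategoryTheory.Limits AlgebraicGeometry TopologicalSpace

namespace K723.HonIn

open Groth.Agent Groth.Agent.VarietyB
open K188.LineDef K505.KonDef K239.HonDef K393.ObjChart K393.ObjDim2 K791 K791.HonBase K723.Fin40 W4swstmapratcurves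

variable {k : Type u} [Field k] [IsAlgClosed k] {n d r e : ℕ}

section

variable {G : LefPen.Form n k d} {hi : IsPre (B0 k r)} {hp : ProdB0 k r} (o : Oe G (QO k r).hom e) (ho : OeStab o)

/-- The components of closed subsets of the chart given by `s` equations. -/
theorem exists_prime_slice {δ : ℕ} (hG : Good G.1 d δ) (hd : 1 ≤ d) (h2d : 2 * d ≤ n + 1) (s : ℕ)
    (a : Fin s → (l0 (hi := hi) (hp := hp) o ho).RV) (m : PrimeSpectrum (l0 (hi := hi) (hp := hp) o ho).RV)
    (hm : ∀ i, a i ∈ m.asIdeal) : ∃ p : PrimeSpectrum (l0 (hi := hi) (hp := hp) o ho).RV, p ≤ m ∧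
      (∀ i, a i ∈ p.asIdeal) ∧
      ((n + e * δ + r : ℕ) : WithBot ℕ∞) ≤ ringKrullDim ((l0 (hi := hi) (hp := hp) o ho).RV ⧸ p.asIdeal) + s := by
  let E : (l0 (hi := hi) (hp := hp) o ho).RV ≃+* K314.HonHR.HR G.1 d e (QR k r) := rvEquiv o ho
  letI alg : Algebra k (l0 (hi := hi) (hp := hp) o ho).RV :=
    ((E.symm : K314.HonHR.HR G.1 d e (QR k r) →+* (l0 (hi := hi) (hp := hp) o ho).RV).comp
      (algebraMap k (K314.HonHR.HR G.1 d e (QR k r)))).toAlgebra
  have hft : Algebra.FiniteType k (K314.HonHR.HR G.1 d e (QR k r)) := K479.HonSlice.finiteType_HR' _ _ _ _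
  let E' : K314.HonHR.HR G.1 d e (QR k r) ≃ₐ[k] (l0 (hi := hi) (hp := hp) o ho).RV :=
    { E.symm with commutes' := fun _ => rfl }
  have hft' : Algebra.FiniteType k (l0 (hi := hi) (hp := hp) o ho).RV := hft.equiv E'
  have hirr : IrreducibleSpace (PrimeSpectrum (l0 (hi := hi) (hp := hp) o ho).RV) := by
    have h1 := irreducibleSpace_HR_QR hG hd h2d e r
    exact K791.HonRing.irreducibleSpace_of_surjective _ (PrimeSpectrum.homeomorphOfRingEquiv E).symm.continuous
      (PrimeSpectrum.homeomorphOfRingEquiv E).symm.surjective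
  obtain ⟨p, h1, h2, h3⟩ := K479.Slice.exists_prime_slice k hirr s a m hm
  refine ⟨p, h1, h2, ?_⟩
  rw [ringKrullDim_RV o ho hG hd h2d] at h3
  exact h3

end

/-- The existence of the slice. -/
def SliceP (G : LefPen.Form n k d) (r e : ℕ) : Prop :=
  ∀ (h𝒳 : FibCat.IsFibGrpd (Mst G r e).p) (hi : IsPre (B0 k r)) (hp : ProdB0 k r) (o : Oe G (QO k r).hom e) (ho : OeStab o)
    (Un : Univ (l0 (hi := hi) (hp := hp) o ho)) (D : ℕ),
    (∀ (s : ℕ) (a : Fin s → (l0 (hi := hi) (hp := hp) o ho).RV) (m : PrimeSpectrum (l0 (hi := hi) (hp := hp) o ho).RV),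
      (∀ i, a i ∈ m.asIdeal) → ∃ p : PrimeSpectrum (l0 (hi := hi) (hp := hp) o ho).RV, p ≤ m ∧ (∀ i, a i ∈ p.asIdeal) ∧
        ((D + 4 : ℕ) : WithBot ℕ∞) ≤ ringKrullDim ((l0 (hi := hi) (hp := hp) o ho).RV ⧸ p.asIdeal) + s) →
    ∀ (a b : Fin (n + 1) → k), LinearIndependent k ![a, b] → (∀ s t : k, MvPolynomial.eval (s • a + t • b) G.1 = 0) →
    ∃ (S : Scheme.{u}) (_ : S.Over (Spec (CommRingCat.of k))) (_ : LocallyOfFiniteType (S ↘ Spec (CommRingCat.of k)))
      (j : S ⟶ ((Mst G r e).p.obj Un.A).left), (D : WithBot ℕ∞) ≤ topologicalKrullDim S ∧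
      (∀ s : S, ∃ q : ((Mst G r e).p.obj Un.A).left, cls h𝒳 Un.A q = cls h𝒳 Un.A (j s) ∧
        DimSch.trd k S s + 4 ≤ DimSch.trd k ((Mst G r e).p.obj Un.A).left q) ∧
      ∀ s : S, DimSch.trd k ((Mst G r e).p.obj Un.A).left (j s) ≤ DimSch.trd k S s

theorem honInput {G : LefPen.Form n k d} (hG : Good G.1 d (n + 1 - d)) (hd : 1 ≤ d) (hdn : d + 3 ≤ n)
    (h2d : 2 * d ≤ n + 1) (HS : SliceP G r e) : HonInput G r e ((n + 1 - d) * e + (n - 4) + r) := by
  intro h𝒳 hi hp o ho Un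
  have hD : n + e * (n + 1 - d) + r = (n + 1 - d) * e + (n - 4) + r + 4 := by
    rw [Nat.mul_comm e]
    omega
  obtain ⟨a, b, hab, hl⟩ := K384.HonLine.exists_line hG.hom hd (by omega)
  obtain ⟨S, iS, lS, j, h1, h2, h3⟩ := HS h𝒳 hi hp o ho Un ((n + 1 - d) * e + (n - 4) + r) (fun s a m hm => by
    rw [← hD]
    exact exists_prime_slice o ho hG hd h2d s a m hm) a b hab hl
  have hne : Nonempty S := by
    by_contra hcon
    rw [not_nonempty_iff] at hcon
    have h4 : topologicalKrullDim S = ⊥ := by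
      have : IsEmpty (IrreducibleCloseds S) := ⟨fun Z => by
        obtain ⟨z, -⟩ := Z.isIrreducible.nonempty
        exact hcon.false z⟩
      exact Order.krullDim_eq_bot
    rw [h4] at h1
    exact WithBot.coe_ne_bot (a := (((n + 1 - d) * e + (n - 4) + r : ℕ) : ℕ∞)) (le_bot_iff.mp h1)
  obtain ⟨s⟩ := hne
  have hne' : Nonempty Un.A.obj.base.left := ⟨j s⟩
  refine ⟨irreducibleSpace_base' o ho hG hd h2d Un, ?_, S, iS, lS, j, h1, h2, h3⟩
  rw [← hD]
  exact topologicalKrullDim_base_le' o ho hG hd h2d Un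

end K723.HonIn
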