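import Groth.Agent.Fano.K723.LinEx
import Groth.Agent.Fano.K130.Marks
import Groth.Agent.Fano.K314.CrvDense
import Groth.Agent.Fano.K314.HsurjD

/-!
# Every stable map over an algebraically closed field has a datum for some linear chart (S16940)

`ptData`: the statement `K314.HsurjD.PtData G r e` for `1 ≤ e`.
-/

set_option autoImplicit false
universe u

open CategoryTheory CategoryTheory.Limits AlgebraicGeometry TopologicalSpace

namespace K723.PtData

open Groth.Agent Groth.Agent.Fdesc.LocGen K390.PnSec K505.KonDef K723.LinDef K723.LinEx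
open K188.LineDef K745.ConDef W4swstmapratcurves

variable {k : Type u} [Field k] {n d : ℕ} {G : LefPen.Form n k d} {r e : ℕ}

theorem isPre_of_stable {S : Scheme.{u}} {N : ℕ} {A : CurvSt.PtFamObj S N}
    (h : CurvSt.IsStableFam A.f A.sect A.sect_f 0) : IsPre A :=
  ⟨h.1, h.2.1, h.2.2.1, fun Ω _ _ t Xt i q hP =>
    have h := h.2.2.2 Ω t Xt i q hP
    ⟨h.1, h.2.1, h.2.2.1, h.2.2.2.1, h.2.2.2.2.1, h.2.2.2.2.2.1⟩⟩

/-- Every stable map of positive degree over an algebraically closed field has a datum for some linear chart over a chart of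
pointed curves whose smooth curves are dense. -/
theorem ptData (he : 1 ≤ e) : K314.HsurjD.PtData G r e := by
  intro Ω _ _ t Y hY
  obtain ⟨m, y, hy, a, hst, ha, hO⟩ := K130.Marks.exists_marks Y t hY he
  obtain ⟨⟨⟨base, C, f, sect, sect_f⟩, map, map_over⟩, hY1, hY2⟩ := Y
  dsimp only at hY
  subst hY
  let A : CurvSt.PtFamObj (Spec (CommRingCat.of k)) (r + m) := addM
    { base := Over.mk t, C := C, f := f, sect := sect, sect_f := sect_f } y hy
  have hys : ys A = y := by
    funext j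
    exact Fin.addCases_right (motive := fun _ => (Over.mk t).left ⟶ C) (left := sect) (right := y) j
  have hstA : CurvSt.IsStableFam A.f A.sect A.sect_f 0 := hst
  have hA : IsPre A := isPre_of_stable hstA
  have hsq : IsPullback (𝟙 C) f f (𝟙 (Spec (CommRingCat.of Ω))) :=
    @IsPullback.of_horiz_isIso _ _ _ _ _ _ (𝟙 C) f f (𝟙 (Spec (CommRingCat.of Ω))) (IsIso.id C)
      (IsIso.id (Spec (CommRingCat.of Ω))) ⟨(Category.id_comp f).trans (Category.comp_id f).symm⟩
  have hN : 3 ≤ r + m := by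
    have h1 := (hstA.2.2.2 Ω (𝟙 _) C (𝟙 C) f hsq).2.2.2.2.2.2.2
    omega
  obtain ⟨c, -, hstc, hdense, ⟨h⟩⟩ := K655.CrvDens.exists_crvChart hN A hstA (Iso.refl _)
  let ι := (LefPen.hypIdeal G).subschemeι
  let M := (Scheme.Modules.pullback (map ≫ ι)).obj (O1 n k)
  obtain ⟨L, s, hL, hLM⟩ := exists_modules (A := A) hA c.isPre h a (M := M) (fun i => by
    rw [hys]
    exact hO i)
  have hP : IsPullback h.top f c.f h.base.left := h.cart
  obtain ⟨τ₀⟩ := hLM 0
  have hdeg : letI : C.Over (Spec (CommRingCat.of Ω)) := ⟨f⟩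
      Curv2.deg Ω C ((Scheme.Modules.pullback h.top).obj (L 0)) 1 = e := by
    let iC : C.Over (Spec (CommRingCat.of Ω)) := ⟨f⟩
    have h1 : Curv2.deg Ω C ((Scheme.Modules.pullback (𝟙 C ≫ map)).obj (hypO1 G)) 1 = e :=
      hY2 Ω (𝟙 _) C (𝟙 C) f hsq
    rw [← h1]
    exact CurvesC.DegIso.deg_congr Ω (X := C) (τ₀ ≪≫ ((Scheme.Modules.pullbackComp (𝟙 C ≫ map) ι).app (O1 n k) ≪≫
      (Scheme.Modules.pullbackCongr (by rw [Category.id_comp])).app (O1 n k)).symm) 1
  obtain ⟨c', b, ℓ, hb, hfac, ⟨τ⟩⟩ := exists_linChart hstc G a ha L s hL h.base.left h.top f hP (fun j => by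
    obtain ⟨τ₁⟩ := hLM j
    exact ⟨τ₁ ≪≫ τ₀.symm⟩) hdeg
  obtain ⟨h', hh'⟩ := hfac A h (by
    rintro _ ⟨x, rfl⟩
    exact Set.mem_singleton_iff.mpr (congrArg h.base.left (Subsingleton.elim (α := Spec (CommRingCat.of Ω)) x _)))
  have het : Etale b.base.left := inferInstance
  refine ⟨m, c', ℓ, K314.CrvDense.dense_of_hom b hdense, K314.Restr.nonempty_datum y hy h' ?_⟩
  have htop : h'.top ≫ b.top = h.top := congrArg (fun z => z.top) hh'
  exact τ₀.symm ≪≫ (Scheme.Modules.pullbackCongr htop.symm).app (L 0) ≪≫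
    ((Scheme.Modules.pullbackComp h'.top b.top).app (L 0)).symm ≪≫
    ((Scheme.Modules.pullback h'.top).mapIso τ).symm

end K723.PtData
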