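import Groth.Agent.AgPol.K652.QPRf
import Groth.Agent.Sga67.LocBasis
import Groth.Agent.Fano.K723.LinDef

/-!
# Bases of sections over an arbitrary base

* `coords_of_affine`: a family of sections is a basis over the functions on the base if this is so over the affine opens;
* `coords_of_frame`: a frame gives a basis after every base change, not only to affine schemes.
-/

set_option autoImplicit false
universe u

open AlgebraicGeometry CategoryTheory CategoryTheory.Limits TopologicalSpace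

namespace K723.BasisLoc

open Groth.Agent.Fdesc.LocGen K652.QPRf Groth.Agent.Sga67.LocBasis

variable {X Y S T : Scheme.{u}}

theorem appTop_rf (q : Y ⟶ T) (W : T.Opens) (a : Γ(T, W)) :
    (q ∣_ W).appTop (rf W.ι (le_preimage_ι W) a) = rf (q ⁻¹ᵁ W).ι (le_preimage_ι _) (q.app W a) := by
  have hsq : IsPullback (q ⁻¹ᵁ W).ι (q ∣_ W) q W.ι := (isPullback_morphismRestrict q W).flip
  rw [rf_comp (q ∣_ W) W.ι (le_preimage_ι W) (by rw [← hsq.w]; exact le_preimage_ι (q ⁻¹ᵁ W)),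
    rf_app (q ⁻¹ᵁ W).ι q (le_preimage_ι _) (by rw [hsq.w]; exact (by rw [← hsq.w]; exact le_preimage_ι (q ⁻¹ᵁ W)))]
  exact rf_congr hsq.w.symm _ _ _

theorem ps_comb (q : Y ⟶ T) {N : Y.Modules} {h : ℕ} (η : Fin h → Γ(N, ⊤)) (W : T.Opens) (a : Fin h → Γ(T, W)) :
    ps (q ⁻¹ᵁ W).ι (∑ j, (q.app W (a j)) • res N (le_top : q ⁻¹ᵁ W ≤ ⊤) (η j)) (le_preimage_ι _) =
      ∑ j, ((q ∣_ W).appTop (rf W.ι (le_preimage_ι W) (a j))) • pullTop (q ⁻¹ᵁ W).ι (η j) := by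
  rw [ps_sum_smul]
  refine Finset.sum_congr rfl fun j _ => ?_
  rw [appTop_rf, ps_eq_pullTop_res]

/-- The restriction of the sections to the preimage of an open set. -/
theorem bijective_of_coords (q : Y ⟶ T) {N : Y.Modules} {h : ℕ} (η : Fin h → Γ(N, ⊤)) (W : T.Opens)
    (H : Coords (q ∣_ W) (fun l => pullTop (q ⁻¹ᵁ W).ι (η l))) :
    ∀ s : Γ(N, q ⁻¹ᵁ W), ∃! a : Fin h → Γ(T, W), s = ∑ j, (q.app W (a j)) • res N (le_top : q ⁻¹ᵁ W ≤ ⊤) (η j) := by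
  intro s
  obtain ⟨c, hc, hu⟩ := H (ps (q ⁻¹ᵁ W).ι s (le_preimage_ι _))
  choose a ha using fun l => (rf_ι_bijective W).2 (c l)
  refine ⟨a, ?_, ?_⟩
  · refine ps_injective (L := N) (q ⁻¹ᵁ W) ?_
    change ps _ s _ = ps _ _ _
    rw [ps_comb, hc]
    refine Finset.sum_congr rfl fun l _ => ?_
    rw [ha]
  · intro a' ha'
    have h1 := hu (fun l => rf W.ι (le_preimage_ι W) (a' l)) (by
      change ps _ s _ = _
      rw [ha', ps_comb])
    funext l
    refine (rf_ι_bijective W).1 ?_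
    rw [ha l]
    exact congrFun h1 l

/-- A basis over the functions on the base, locally on the base. -/
theorem coords_of_affine (q : Y ⟶ T) {N : Y.Modules} {h : ℕ} (η : Fin h → Γ(N, ⊤))
    (H : ∀ W : T.Opens, IsAffineOpen W → Coords (q ∣_ W) (fun l => pullTop (q ⁻¹ᵁ W).ι (η l))) :
    Coords q η := by
  have hb : IsLocBasis (M := (Scheme.Modules.pushforward q).obj N) (U := ⊤) (κ := Fin h) η := by
    refine isLocBasis_of_locally _ fun x V _ hxV => ?_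
    obtain ⟨_, ⟨W, hW, rfl⟩, hxW, hWV⟩ := T.isBasis_affineOpens.exists_subset_of_mem_open
      (show x ∈ (V : Set T) from hxV) V.isOpen
    refine ⟨W, le_top, hWV, hxW, ?_⟩
    have h1 := bijective_of_coords q η W (H W hW)
    constructor
    · intro a a' haa
      exact (h1 (comb (M := (Scheme.Modules.pushforward q).obj N) (U := ⊤) η le_top a)).unique rfl haa
    · intro s
      obtain ⟨a, ha, -⟩ := h1 s
      exact ⟨a, ha.symm⟩
  intro s
  have h2 := hb ⊤ le_rfl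
  have h3 : ∀ a : Fin h → Γ(T, ⊤), comb (M := (Scheme.Modules.pushforward q).obj N) (U := ⊤) η le_rfl a =
      ∑ l, (q.appTop (a l)) • η l := by
    intro a
    refine (comb_apply _ _ _).trans ?_
    refine Finset.sum_congr rfl fun l _ => ?_
    change (q.appTop (a l)) • Groth.Agent.Fdesc.LocGen.res N le_rfl (η l) = _
    rw [res_refl]
  obtain ⟨a, ha⟩ := h2.2 s
  refine ⟨a, (h3 a ▸ ha).symm, fun a' ha' => h2.1 ?_⟩
  rw [ha, h3 a']
  exact ha'.symm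

/-- Coordinates are transported by isomorphisms. -/
theorem coords_iso (q : Y ⟶ T) {N N' : Y.Modules} {h : ℕ} {η : Fin h → Γ(N, ⊤)} (τ : N ≅ N')
    (H : Coords q η) : Coords q (fun l => τ.hom.app ⊤ (η l)) := by
  intro s
  obtain ⟨c, hc, hu⟩ := H (τ.inv.app ⊤ s)
  have h1 : ∀ t : Γ(N, ⊤), τ.inv.app ⊤ (τ.hom.app ⊤ t) = t := fun t => congr(($(τ.hom_inv_id).app ⊤) t)
  have h2 : ∀ t : Γ(N', ⊤), τ.hom.app ⊤ (τ.inv.app ⊤ t) = t := fun t => congr(($(τ.inv_hom_id).app ⊤) t)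
  have h3 : ∀ c : Fin h → Γ(T, ⊤), τ.hom.app ⊤ (∑ l, (q.appTop (c l)) • η l) =
      ∑ l, (q.appTop (c l)) • τ.hom.app ⊤ (η l) := by
    intro c
    rw [map_sum]
    refine Finset.sum_congr rfl fun l _ => ?_
    exact Scheme.Modules.Hom.app_smul τ.hom _ _
  refine ⟨c, ?_, fun c' hc' => hu c' ?_⟩
  · change s = ∑ l, (q.appTop (c l)) • τ.hom.app ⊤ (η l)
    rw [← h3, ← hc, h2]
  · change τ.inv.app ⊤ s = ∑ l, (q.appTop (c' l)) • η l
    have hc'' : s = ∑ l, (q.appTop (c' l)) • τ.hom.app ⊤ (η l) := hc'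
    rw [hc'', ← h3, h1]

theorem coords_congr {q : Y ⟶ T} {N : Y.Modules} {h : ℕ} {η η' : Fin h → Γ(N, ⊤)} (e : η = η')
    (H : Coords q η) : Coords q η' := e ▸ H

/-- A frame gives a basis after every base change. -/
theorem coords_of_frame {π : X ⟶ S} {F : X.Modules} {U : S.Opens} {h : ℕ} {e : Fin h → Γ(F, π ⁻¹ᵁ U)}
    (he : Frame π F U e) (f : Y ⟶ X) (q : Y ⟶ T) (α : T ⟶ S) (sq : IsPullback f q π α) (hα : ⊤ ≤ α ⁻¹ᵁ U)
    (hf : ⊤ ≤ f ⁻¹ᵁ (π ⁻¹ᵁ U)) : Coords q (fun l => ps f (e l) hf) := by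
  refine coords_of_affine q _ fun W hW => ?_
  have : IsAffine (W : Scheme.{u}) := hW
  have hsq : IsPullback (q ⁻¹ᵁ W).ι (q ∣_ W) q W.ι := (isPullback_morphismRestrict q W).flip
  have hW' : ⊤ ≤ ((q ⁻¹ᵁ W).ι ≫ f) ⁻¹ᵁ (π ⁻¹ᵁ U) := ((q ⁻¹ᵁ W).ι.preimage_mono hf)
  have h1 := he ((q ⁻¹ᵁ W).ι ≫ f) (q ∣_ W) (W.ι ≫ α) (hsq.paste_horiz sq) (W.ι.preimage_mono hα) hW'
  refine coords_congr (funext fun l => ?_)
    (coords_iso (q ∣_ W) ((Scheme.Modules.pullbackComp (q ⁻¹ᵁ W).ι f).symm.app F) h1)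
  have h2 := ps_comp f hf (q ⁻¹ᵁ W).ι (e l) hW'
  have h3 : ∀ t, ((Scheme.Modules.pullbackComp (q ⁻¹ᵁ W).ι f).inv.app F).app ⊤
      (((Scheme.Modules.pullbackComp (q ⁻¹ᵁ W).ι f).hom.app F).app ⊤ t) = t := fun t =>
    congr((($(Iso.hom_inv_id_app (Scheme.Modules.pullbackComp (q ⁻¹ᵁ W).ι f) F)).app ⊤) t)
  rw [← h2]
  exact h3 _

end K723.BasisLoc
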