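import Groth.Agent.Picfga.ChiCech
import Groth.Agent.Fano.K723.BasisLoc

/-!
# Bases of sections: isomorphisms, base change, dimension over a field

* `IsBasis.iso`, `IsBasis.pull`, `IsBasis.restrict`;
* `finrank_of_isBasis`: over a field the number of elements of a basis is the dimension of `H⁰`.
-/

set_option autoImplicit false
universe u

open AlgebraicGeometry CategoryTheory CategoryTheory.Limits TopologicalSpace

namespace K723.BasisKit

open Groth.Agent Groth.Agent.Fdesc.LocGen K652.QPRf K723.LinDef K723.BasisLoc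

variable {C C' C'' T T' T'' : Scheme.{u}}

theorem map_pullTop (f : C' ⟶ C) {L M : C.Modules} (φ : L ⟶ M) (s : Γ(L, ⊤)) :
    ((Scheme.Modules.pullback f).map φ).app ⊤ (pullTop f s) = pullTop f (φ.app ⊤ s) :=
  pullback_map_pullSec f φ (U := ⊤) s

theorem pullTop_comp (f : C'' ⟶ C') (g : C' ⟶ C) {L : C.Modules} (s : Γ(L, ⊤)) :
    ((Scheme.Modules.pullbackComp f g).hom.app L).app ⊤ (pullTop f (pullTop g s)) = pullTop (f ≫ g) s :=
  pullSec_comp' f g (U := ⊤) s

theorem pullTop_congr {f f' : C' ⟶ C} (h : f = f') {L : C.Modules} (s : Γ(L, ⊤)) :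
    ((Scheme.Modules.pullbackCongr h).hom.app L).app ⊤ (pullTop f s) = pullTop f' s := by
  subst h
  have : (Scheme.Modules.pullbackCongr (rfl : f = f)).hom.app L = 𝟙 _ := by
    simp [Scheme.Modules.pullbackCongr]
  rw [this]
  rfl

theorem IsBasis.iso {f : C ⟶ T} {L L' : C.Modules} {h : ℕ} {ε : Fin h → Γ(L, ⊤)} (hε : IsBasis f L ε) (τ : L ≅ L') :
    IsBasis f L' (fun j => τ.hom.app ⊤ (ε j)) := by
  intro T' C' i f' g hP
  exact coords_congr (funext fun j => map_pullTop i τ.hom (ε j))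
    (coords_iso f' ((Scheme.Modules.pullback i).mapIso τ) (hε i f' g hP))

theorem IsBasis.pull {f : C ⟶ T} {L : C.Modules} {h : ℕ} {ε : Fin h → Γ(L, ⊤)} (hε : IsBasis f L ε)
    {i : C' ⟶ C} {f' : C' ⟶ T'} {g : T' ⟶ T} (hP : IsPullback i f' f g) :
    IsBasis f' ((Scheme.Modules.pullback i).obj L) (fun j => pullTop i (ε j)) := by
  intro T'' C'' i' f'' g' hP'
  have h1 := hε (i' ≫ i) f'' (g' ≫ g) (hP'.paste_horiz hP)
  refine coords_congr (funext fun j => ?_)
    (coords_iso f'' ((Scheme.Modules.pullbackComp i' i).symm.app L) h1)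
  have h3 : ∀ t, ((Scheme.Modules.pullbackComp i' i).inv.app L).app ⊤
      (((Scheme.Modules.pullbackComp i' i).hom.app L).app ⊤ t) = t := fun t =>
    congr((($(Iso.hom_inv_id_app (Scheme.Modules.pullbackComp i' i) L)).app ⊤) t)
  change ((Scheme.Modules.pullbackComp i' i).inv.app L).app ⊤ (pullTop (i' ≫ i) (ε j)) = _
  rw [← pullTop_comp]
  exact h3 _

/-- A basis over an open subset of the base gives a basis of the pullback to every scheme over the open subset. -/
theorem exists_isBasis_of_le {f : C ⟶ T} {L : C.Modules} {V : T.Opens} {h : ℕ}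
    {ε : Fin h → Γ((Scheme.Modules.pullback (f ⁻¹ᵁ V).ι).obj L, ⊤)}
    (hε : IsBasis (f ∣_ V) ((Scheme.Modules.pullback (f ⁻¹ᵁ V).ι).obj L) ε)
    {i : C' ⟶ C} {f' : C' ⟶ T'} {g : T' ⟶ T} (hP : IsPullback i f' f g) (hg : Set.range g ⊆ (V : Set T)) :
    ∃ ε' : Fin h → Γ((Scheme.Modules.pullback i).obj L, ⊤), IsBasis f' ((Scheme.Modules.pullback i).obj L) ε' := by
  have hgr : Set.range g ⊆ Set.range V.ι := by rwa [Scheme.Opens.range_ι]
  have hir : Set.range i ⊆ Set.range (f ⁻¹ᵁ V).ι := by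
    rw [Scheme.Opens.range_ι]
    rintro _ ⟨z, rfl⟩
    change f (i z) ∈ V
    rw [← Scheme.Hom.comp_apply, hP.w, Scheme.Hom.comp_apply]
    exact hg ⟨_, rfl⟩
  have hsq : IsPullback (f ⁻¹ᵁ V).ι (f ∣_ V) f V.ι := (isPullback_morphismRestrict f V).flip
  obtain ⟨a, ha⟩ : ∃ a, a ≫ (f ⁻¹ᵁ V).ι = i := ⟨IsOpenImmersion.lift _ i hir, IsOpenImmersion.lift_fac _ _ _⟩
  obtain ⟨b, hb⟩ : ∃ b, b ≫ V.ι = g := ⟨IsOpenImmersion.lift _ g hgr, IsOpenImmersion.lift_fac _ _ _⟩
  have hP' : IsPullback a f' (f ∣_ V) b := by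
    refine IsPullback.of_right (h₁₂ := (f ⁻¹ᵁ V).ι) (h₂₂ := V.ι) (v₁₃ := f) ?_ ?_ hsq
    · rw [ha, hb]
      exact hP
    · rw [← cancel_mono V.ι, Category.assoc, Category.assoc, ← hsq.w, reassoc_of% ha, hb, hP.w]
  exact ⟨_, IsBasis.iso (IsBasis.pull hε hP') ((Scheme.Modules.pullbackComp a (f ⁻¹ᵁ V).ι).app L ≪≫
    (Scheme.Modules.pullbackCongr ha).app L)⟩

theorem IsBasis.coords {f : C ⟶ T} {L : C.Modules} {h : ℕ} {ε : Fin h → Γ(L, ⊤)} (hε : IsBasis f L ε) :
    Coords f ε := by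
  have hP : IsPullback (𝟙 C) f f (𝟙 T) := IsPullback.of_horiz_isIso ⟨(Category.id_comp f).trans (Category.comp_id f).symm⟩
  refine coords_congr (funext fun j => ?_) (coords_iso f ((Scheme.Modules.pullbackId C).app L) (hε (𝟙 C) f (𝟙 T) hP))
  have h := unit_conjugateEquiv (Adjunction.id (C := C.Modules))
    (Scheme.Modules.pullbackPushforwardAdjunction (𝟙 C)) (Scheme.Modules.pullbackId C).hom L
  rw [Scheme.Modules.conjugateEquiv_pullbackId_hom] at h
  exact congr(($(h).app ⊤) (ε j)).symm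

theorem subsingleton_HH_of_iso {X : Scheme.{u}} {M N : X.Modules} (e : M ≅ N) (p : ℕ)
    (h : Subsingleton (Coh.HH X M p)) : Subsingleton (Coh.HH X N p) := by
  let e' : Coh.toAb M ≅ Coh.toAb N := (SheafOfModules.toSheaf X.ringCatSheaf).mapIso e
  refine subsingleton_of_forall_eq 0 fun x ↦ ?_
  have h1 : x = Sheaf.H.map e'.hom p (Sheaf.H.map e'.inv p x) := by
    rw [← Sheaf.H.map_comp_apply, e'.inv_hom_id, Sheaf.H.map_id_apply]
  rw [h1, h.elim (Sheaf.H.map e'.inv p x) 0, map_zero]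

section Field

variable {Ω : Type u} [Field Ω] {X : Scheme.{u}}

/-- Over a field the number of elements of a basis is the dimension of `H⁰`. -/
theorem finrank_of_coords (q : X ⟶ Spec (CommRingCat.of Ω)) {L : X.Modules} {h : ℕ} {ε : Fin h → Γ(L, ⊤)}
    (hε : Coords q ε) :
    letI : X.Over (Spec (CommRingCat.of Ω)) := ⟨q⟩
    Module.finrank Ω (Coh.HH X L 0) = h := by
  letI : X.Over (Spec (CommRingCat.of Ω)) := ⟨q⟩
  let κ : Ω →+* Γ(Spec (CommRingCat.of Ω), ⊤) := (Scheme.ΓSpecIso (CommRingCat.of Ω)).inv.hom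
  have hκ : Function.Bijective κ := ConcreteCategory.bijective_of_isIso (Scheme.ΓSpecIso (CommRingCat.of Ω)).inv
  have hstr : ∀ c : Ω, Picfga.ChiCech.str Ω (X := X) ⊤ c = q.appTop (κ c) := by
    intro c
    change ores (le_top : (⊤ : X.Opens) ≤ ⊤) (Coh.toGlobal q c) = _
    rw [ores_refl]
    rfl
  let φ : (Fin h → Ω) →ₗ[Ω] Picfga.ChiCech.SecA Ω L ⊤ :=
    { toFun := fun c => Picfga.ChiCech.toSecA (∑ j, (q.appTop (κ (c j))) • ε j)
      map_add' := by
        intro c c'
        rw [← map_add, ← Finset.sum_add_distrib]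
        congr 1
        refine Finset.sum_congr rfl fun j _ => ?_
        rw [← add_smul]
        congr 1
        rw [Pi.add_apply, map_add, map_add]
      map_smul' := by
        intro a c
        rw [RingHom.id_apply, Picfga.ChiCech.toSecA_smul, hstr, Finset.smul_sum]
        congr 1
        refine Finset.sum_congr rfl fun j _ => ?_
        rw [smul_smul, Pi.smul_apply, smul_eq_mul, map_mul, map_mul] }
  have hφ : Function.Bijective φ := by
    constructor
    · intro c c' hcc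
      have h1 : ∑ j, (q.appTop (κ (c j))) • ε j = ∑ j, (q.appTop (κ (c' j))) • ε j :=
        Picfga.ChiCech.toSecA.injective hcc
      have h2 := (hε (∑ j, (q.appTop (κ (c j))) • ε j)).unique (y₁ := fun j => κ (c j)) (y₂ := fun j => κ (c' j)) rfl h1
      funext j
      exact hκ.1 (congrFun h2 j)
    · intro s
      obtain ⟨b, hb, -⟩ := hε (Picfga.ChiCech.toSecA.symm s)
      choose c hc using fun j => hκ.2 (b j)
      refine ⟨c, ?_⟩
      change Picfga.ChiCech.toSecA (∑ j, (q.appTop (κ (c j))) • ε j) = s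
      have h3 : ∑ j, (q.appTop (κ (c j))) • ε j = Picfga.ChiCech.toSecA.symm s := by
        rw [hb]
        exact Finset.sum_congr rfl fun j _ => by rw [hc j]
      rw [h3, AddEquiv.apply_symm_apply]
  let e : (Fin h → Ω) ≃ₗ[Ω] Coh.HH X L 0 :=
    (LinearEquiv.ofBijective φ hφ).trans (Picfga.ChiCech.h0Top Ω L).symm
  rw [← e.finrank_eq, Module.finrank_fin_fun]

theorem finrank_of_isBasis {f : C ⟶ T} {L : C.Modules} {h : ℕ} {ε : Fin h → Γ(L, ⊤)} (hε : IsBasis f L ε)
    {t : Spec (CommRingCat.of Ω) ⟶ T} {i : X ⟶ C} {q : X ⟶ Spec (CommRingCat.of Ω)} (hP : IsPullback i q f t) :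
    letI : X.Over (Spec (CommRingCat.of Ω)) := ⟨q⟩
    Module.finrank Ω (Coh.HH X ((Scheme.Modules.pullback i).obj L) 0) = h :=
  finrank_of_coords q (hε i q t hP)

end Field

end K723.BasisKit
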