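import Groth.Agent.AgPol.K652.QPFrame
import Groth.Agent.AbVar.K527.FibreVan
import Groth.Agent.Surf.K456.FlatInv
import Groth.Agent.Dcoh.FTFP
import Groth.Agent.Fano.K723.BasisLoc

/-!
# Bases of sections near a fibre

`A` a prestable family of pointed curves of genus zero, `t` a geometric point of its base.
* `isBasis_of_frame`, `exists_isBasis_near` : if `H¹` of the fibre of `L` vanishes, the sections of `L` have a basis near `t`.
-/

set_option autoImplicit false
universe u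

open AlgebraicGeometry CategoryTheory CategoryTheory.Limits TopologicalSpace

namespace K723.BasisNear

open Groth.Agent Groth.Agent.Fdesc.LocGen K652.QPRf
open K390.PnSec K505.KonDef K723.LinDef K723.BasisLoc

section Frames

variable {X Y S T : Scheme.{u}}

/-- A frame gives a basis of the pull back to every scheme over the open set. -/
theorem isBasis_of_frame {π : X ⟶ S} {F : X.Modules} {U : S.Opens} {h : ℕ} {e : Fin h → Γ(F, π ⁻¹ᵁ U)}
    (he : Frame π F U e) (f : Y ⟶ X) (q : Y ⟶ T) (α : T ⟶ S) (sq : IsPullback f q π α) (hα : ⊤ ≤ α ⁻¹ᵁ U)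
    (hf : ⊤ ≤ f ⁻¹ᵁ (π ⁻¹ᵁ U)) : IsBasis q ((Scheme.Modules.pullback f).obj F) (fun l => ps f (e l) hf) := by
  intro T' C' i f' g hsq
  have hW' : ⊤ ≤ (i ≫ f) ⁻¹ᵁ (π ⁻¹ᵁ U) := i.preimage_mono hf
  have h1 := coords_of_frame he (i ≫ f) f' (g ≫ α) (hsq.paste_horiz sq) (g.preimage_mono hα) hW'
  refine coords_congr (funext fun l => ?_) (coords_iso f' ((Scheme.Modules.pullbackComp i f).symm.app F) h1)
  have h2 := ps_comp f hf i (e l) hW'
  have h3 : ∀ t, ((Scheme.Modules.pullbackComp i f).inv.app F).app ⊤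
      (((Scheme.Modules.pullbackComp i f).hom.app F).app ⊤ t) = t := fun t =>
    congr((($(Iso.hom_inv_id_app (Scheme.Modules.pullbackComp i f) F)).app ⊤) t)
  rw [← h2]
  exact h3 _

end Frames

theorem isFP_of_isInvertible {X : Scheme.{u}} {L : X.Modules} (hL : PicF.IsInvertible L) : CohB1.IsFP L :=
  have h := K456.FlatInv.isFinLocFree_of_isInvertible hL
  Dcoh.FTFP.isFP_of_cokernel_finLocFree h h (0 : L ⟶ L) (𝟙 _) (by simp) (CokernelCofork.IsColimit.ofId _ rfl)

section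

variable {S : Scheme.{u}} {N : ℕ} {A : CurvSt.PtFamObj S N}

/-- Frames of an invertible module near a geometric point with vanishing `H¹` of the fibre. -/
theorem exists_frame_near (hA : IsPre A) {L : A.C.Modules} (hL : PicF.IsInvertible L)
    {Ω : Type u} [Field Ω] (t : Spec (CommRingCat.of Ω) ⟶ A.base.left) {Xt : Scheme.{u}}
    (i : Xt ⟶ A.C) (q : Xt ⟶ Spec (CommRingCat.of Ω)) (hP : IsPullback i q A.f t)
    (h1 : Subsingleton (Coh.HH Xt ((Scheme.Modules.pullback i).obj L) 1)) :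
    ∃ (V : A.base.left.Opens) (h : ℕ) (e : Fin h → Γ(L, A.f ⁻¹ᵁ V)),
      t (IsLocalRing.closedPoint Ω) ∈ V ∧ IsAffineOpen V ∧ Frame A.f L V e := by
  have hfl := hA.1
  have hpr := hA.2.1
  have hfp := hA.2.2.1
  have h2 := (K527.FibreVan.fiberH_iff A.f L (Groth.Agent.Ega2.QCohLocal.isQCoh_of_isInvertible hL) t i q hP 0).2 h1
  obtain ⟨U, h, e, hU, hUa, he⟩ := K652.QPFrame.exists_frame A.f L
    (Groth.Agent.Ega2.QCohLocal.isQCoh_of_isInvertible hL) (isFP_of_isInvertible hL)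
    (K456.FlatInv.isFlatOver_of_isInvertible A.f hL) _ h2
  exact ⟨U, h, e, hU, hUa, he⟩

/-- Node B2. -/
theorem exists_isBasis_near (hA : IsPre A) {L : A.C.Modules} (hL : PicF.IsInvertible L)
    {Ω : Type u} [Field Ω] [IsAlgClosed Ω] (t : Spec (CommRingCat.of Ω) ⟶ A.base.left) {Xt : Scheme.{u}}
    (i : Xt ⟶ A.C) (q : Xt ⟶ Spec (CommRingCat.of Ω)) (hP : IsPullback i q A.f t)
    (h1 : Subsingleton (Coh.HH Xt ((Scheme.Modules.pullback i).obj L) 1)) :
    ∃ (V : A.base.left.Opens) (h : ℕ) (ε : Fin h → Γ((Scheme.Modules.pullback (A.f ⁻¹ᵁ V).ι).obj L, ⊤)),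
      t (IsLocalRing.closedPoint Ω) ∈ V ∧ IsAffineOpen V ∧
        IsBasis (A.f ∣_ V) ((Scheme.Modules.pullback (A.f ⁻¹ᵁ V).ι).obj L) ε := by
  obtain ⟨V, h, e, hV, hVa, he⟩ := exists_frame_near hA hL t i q hP h1
  exact ⟨V, h, _, hV, hVa, isBasis_of_frame he (A.f ⁻¹ᵁ V).ι (A.f ∣_ V) V.ι (isPullback_morphismRestrict A.f V).flip
    (le_preimage_ι V) (le_preimage_ι _)⟩

end

end K723.BasisNear
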