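import Groth.Agent.Fano.K393.ObjDim2
import Groth.Agent.Fano.K393.HorbMap
import Groth.Agent.Fano.K791.DenseFin
import Groth.Agent.Fano.K275.ProdQc
import Groth.Agent.Fano.K275.UnivLft
import Groth.Agent.Fano.K423.HonSF
import Groth.Agent.Fano.K314.HsurjU
import Groth.Agent.Fano.K384.Hb5
import Groth.Agent.Fano.K384.RecMain
import Groth.Agent.Fano.K458.HonB1
import Groth.Agent.Fano.K741.HonC
import Groth.Agent.Fano.K351.HonP
import Groth.Agent.Fano.K791.MorIrr
import Groth.Agent.Fano.K479.ArcMain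

/-!
# Irreducibility and dimension of the stack of stable maps to a hypersurface: assembly (S16940)

`irreducible_and_dim`: from the universal families of the linear charts, and the chart of the maps from the projective line.
-/

set_option autoImplicit false
universe u

open CategoryTheory CategoryTheory.Limits AlgebraicGeometry TopologicalSpace

namespace K723.Fin40

open Groth.Agent Groth.Agent.VarietyB
open K505.KonDef K239.HonDef K393.ObjChart K393.ObjDim2 W4swstmapratcurves

variable {k : Type u} [Field k] {n d r e : ℕ}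

/-- The index set of the charts. -/
structure Idx (G : LefPen.Form n k d) (r e : ℕ) where
  m : ℕ
  c : CrvChart k (r + m)
  ℓ : LinChart c G e
  Un : Univ ℓ
  dense : Dense (K655.CrvDens.smPts c)

/-- The module `O(e)` on the projective line over the scheme of tuples. -/
theorem exists_oe (G : LefPen.Form n k d) (r e : ℕ) : Nonempty (Oe G (QO k r).hom e) := by
  obtain ⟨L, ε, h1, h2, h3, h4, h5⟩ := K741.HonC.exists_basis G e (QO k r).left
  exact ⟨{ L := L, inv := h1, ε := ε, basis := h2, deg := h3, van := h4 (QO k r).hom, val := h5 }⟩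

/-- What is needed of the chart of the maps from the projective line. -/
def HonInput (G : LefPen.Form n k d) (r e D : ℕ) : Prop :=
  ∀ (h𝒳 : FibCat.IsFibGrpd (Mst G r e).p) (hi : IsPre (B0 k r)) (hp : ProdB0 k r) (o : Oe G (QO k r).hom e) (ho : OeStab o)
    (Un : Univ (l0 (hi := hi) (hp := hp) o ho)),
    IrreducibleSpace Un.A.obj.base.left ∧ topologicalKrullDim Un.A.obj.base.left ≤ (D + 4 : ℕ) ∧
    ∃ (S : Scheme.{u}) (_ : S.Over (Spec (CommRingCat.of k))) (_ : LocallyOfFiniteType (S ↘ Spec (CommRingCat.of k)))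
      (j : S ⟶ ((Mst G r e).p.obj Un.A).left), (D : WithBot ℕ∞) ≤ topologicalKrullDim S ∧
      (∀ s : S, ∃ q : ((Mst G r e).p.obj Un.A).left, cls h𝒳 Un.A q = cls h𝒳 Un.A (j s) ∧
        DimSch.trd k S s + 4 ≤ DimSch.trd k ((Mst G r e).p.obj Un.A).left q) ∧
      ∀ s : S, DimSch.trd k ((Mst G r e).p.obj Un.A).left (j s) ≤ DimSch.trd k S s

theorem irreducible_and_dim [CharZero k] (G : LefPen.Form n k d) (he : 1 ≤ e) (hG : G.1 ≠ 0) {δ : ℕ}
    (hb : K519.LinTree.ArcBound G.1 δ) (hδ : δ + d = n + 1) {D : ℕ} (H : HonInput G r e D) :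
    IrreducibleSpace (AlgSt.Points (Mst G r e)) ∧ topologicalKrullDim (AlgSt.Points (Mst G r e)) = (D : WithBot ℕ∞) := by
  have hs : Stk.IsPrestack (AlgSp.J (Spec (CommRingCat.of k))) (Mst G r e) := K655.MapPre.isPrestack_mapSt _ _ _ _ _ _
  have hrec : Rec.{u} := K384.Rec.main
  have hi : IsPre (B0 k r) := K458.HonB1.isPre_B0 k r
  have hp : ProdB0 k r := K384.Hb5.prodB0 hrec
  obtain ⟨o⟩ := exists_oe G r e
  have ho : OeStab o := K351.HonP.oeStab he o
  obtain ⟨U0⟩ := K11.UnivMain.nonempty_univ (l0 (hi := hi) (hp := hp) o ho) he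
  obtain ⟨hirr, hdim, S, iS, lS, j, h1, h2, h3⟩ := H hs.1 hi hp o ho U0
  have hlft : ∀ i : Idx G r e, LocallyOfFiniteType ((Mst G r e).p.obj i.Un.A).hom := fun i =>
    K275.UnivLft.locallyOfFiniteType_univ i.Un
  have hlft0 : LocallyOfFiniteType ((Mst G r e).p.obj U0.A).hom := K275.UnivLft.locallyOfFiniteType_univ U0
  have hirr0 : IrreducibleSpace ((Mst G r e).p.obj U0.A).left := hirr
  have hsep : IsSeparated (hypOver G).hom :=
    inferInstanceAs (IsSeparated ((LefPen.hypIdeal G).subschemeι ≫ CohB1.ProjSpace.toSpec n k))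
  have hqc := K275.ProdQc.qcProd_of_isOpenImmersion (c := c0 r hi hp) (fun Y hY => K384.Hb5.exists_prod hrec Y hY)
  exact irreducibleSpace_and_dim hs (fun i : Idx G r e => i.Un.A) (fun i => i.m + 1)
    (fun i => K275.ProdMain.hasProd i.Un)
    (fun p => by
      obtain ⟨m, c, ℓ, Un, q, hd, h4, h5⟩ := K314.HsurjU.hsurj he p
      exact ⟨⟨m, c, ℓ, Un, hd⟩, q, h4, h5⟩)
    D U0.A 4 (K275.ProdMain.hasProd U0) (K275.UnivLft.hasProdAt_self hqc U0) hdim
    (fun i => K791.Dense.dense hs.1 i.Un U0 i.dense hG hb hδ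
      (fun q Y hY hsm => K423.HonSF.exists_datum_of_smooth o ho hrec q Y hY hsm))
    (fun i v => K393.HorbMap.horb_mapSt hs.1 (K275.ProdMain.hasProd i.Un) v) j h1 h2 h3

/-- The bound for the schemes of arcs on a good cone. -/
theorem arcBound_of_good [IsAlgClosed k] {G : MvPolynomial (Fin (n + 1)) k} (hG : K791.Good G d (n + 1 - d))
    (h2d : 2 * d ≤ n + 1) : K519.LinTree.ArcBound G (n + 1 - d) := fun _ _ φ a ha e =>
  K479.ArcRing.ringKrullDim_arc_le h2d hG.hom (fun v hv h0 => by
    have h1 := hG.H1 v hv h0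
    rwa [K791.lineI_eq_lineIdeal] at h1) φ a ha e

/-- For a general form the stacks of stable maps are irreducible of the expected dimension. -/
theorem isGeneric [IsAlgClosed k] [CharZero k] (hd : 1 ≤ d) (hdn : d + 3 ≤ n) (h2d : 2 * d ≤ n + 1)
    (H : ∀ (G : LefPen.Form n k d), K791.Good G.1 d (n + 1 - d) → ∀ (e r : ℕ), 1 ≤ e →
      HonInput G r e ((n + 1 - d) * e + (n - 4) + r)) :
    LefPen.IsGeneric k {G : LefPen.Form n k d | ∀ (e r : ℕ), 1 ≤ e →
      IrreducibleSpace (AlgSt.Points (Mst G r e)) ∧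
      topologicalKrullDim (AlgSt.Points (Mst G r e)) = ((n + 1 - d) * e + (n - 4) + r : ℕ)} :=
  Groth.Agent.Lefpen.H702.PolyFun.IsGeneric.mono (K791.isGeneric_good hd hdn) fun G hG e r he =>
    irreducible_and_dim G he hG.ne (arcBound_of_good hG h2d) hG.sum (H G hG e r he)

end K723.Fin40
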