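import Groth.Agent.Fano.K723.HonIn
import Groth.Agent.Fano.K393.Slice

/-!
# General hypersurfaces: the stacks of stable maps of genus zero are irreducible (S16940)
-/

set_option autoImplicit false
universe u

open CategoryTheory CategoryTheory.Limits AlgebraicGeometry TopologicalSpace

namespace K723.HonFin

open Groth.Agent Groth.Agent.VarietyB
open K505.KonDef K239.HonDef K393.ObjChart K723.Fin40 K723.HonIn W4swstmapratcurves

variable {k : Type u} [Field k] [IsAlgClosed k] {n d r e : ℕ}

theorem sliceP (G : LefPen.Form n k d) (he : 1 ≤ e) : SliceP G r e := by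
  intro h𝒳 hi hp o ho Un D HD4 a b hab hl
  obtain ⟨S, hS, i, h1, h2, h3⟩ := K393.Slice.exists_slice Un h𝒳 he hab hl D (fun f m hf => by
    obtain ⟨p, h4, h5, h6⟩ := HD4 4 f m hf
    refine ⟨p, h4, h5, ?_⟩
    rw [Nat.cast_add] at h6
    exact ENat.WithBot.add_le_add_natCast_right_iff.1 h6)
  exact ⟨S.left, inferInstance, hS, i.left, h1, h2, h3⟩

/-- For a general form of degree `d`, `2 d ≤ n + 1`, the stacks of stable maps of genus zero and positive degree to the
hypersurface are irreducible of the expected dimension. -/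
theorem isGeneric_mst [CharZero k] (hd : 1 ≤ d) (hdn : d + 3 ≤ n) (h2d : 2 * d ≤ n + 1) :
    LefPen.IsGeneric k {G : LefPen.Form n k d | ∀ (e r : ℕ), 1 ≤ e →
      IrreducibleSpace (AlgSt.Points (Mst G r e)) ∧
      topologicalKrullDim (AlgSt.Points (Mst G r e)) = ((n + 1 - d) * e + (n - 4) + r : ℕ)} :=
  K723.Fin40.isGeneric hd hdn h2d fun G hG e r he => K723.HonIn.honInput hG hd hdn h2d (sliceP G he)

end K723.HonFin
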