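import Groth.Agent.Fano.K723.LinFib
import Groth.Agent.Fano.K723.BasisNear
import Groth.Agent.Fano.K275.NearIso
import Groth.Agent.Fano.K616.KonO2
import Groth.Agent.Fano.K314.Restr
import Groth.Agent.Fano.K11.LinEqn

/-!
# Existence of linear charts near a point (S16940)

* `exists_modules`: the modules `O(Σ a_j y_j)` on the universal curve of a chart, isomorphic to `O(1)` on a stable map;
* `exists_linChart`: the restriction of a chart to an affine neighbourhood of a point at which the three modules are isomorphic is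
  a linear chart.
-/

set_option autoImplicit false
universe u

open CategoryTheory CategoryTheory.Limits AlgebraicGeometry TopologicalSpace

namespace K723.LinEx

open Groth.Agent Groth.Agent.Fdesc.LocGen K390.PnSec K505.KonDef K723.LinDef K723.BasisLoc K723.BasisKit K652.QPRf
open K723.LinFib K616.KonO

section Modules

variable {S : Scheme.{u}} {r m : ℕ} {A B : CurvSt.PtFamObj S (r + m)}

/-- The sections `y` under a morphism of families. -/
theorem comap_dI_hom (hB : IsPre B) (h : A ⟶ B) (a : Fin m → ℕ) : (dI (ys B) a).comap h.top = dI (ys A) a := by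
  have hp := hB.2.1
  exact comap_dI (f := B.f) (f' := A.f) (g := h.base.left) h.cart (ys B) (fun j => B.sect_f _) (ys A) (fun j => A.sect_f _)
    (fun j => h.w_sect _) a

theorem isO_hom (hB : IsPre B) (h : A ⟶ B) {a : Fin m → ℕ} {L : B.C.Modules} {s : Γ(L, ⊤)}
    (hs : IsO (dI (ys B) a) L s) : IsO (dI (ys A) a) ((Scheme.Modules.pullback h.top).obj L) (pullTop h.top s) := by
  rw [← comap_dI_hom hB h a]
  exact isO_pullback hs h.top

/-- The modules of the divisors of the sections. -/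
theorem exists_modules (hA : IsPre A) (hB : IsPre B) (h : A ⟶ B) (a : Fin 3 → Fin m → ℕ) {M : A.C.Modules}
    (hM : ∀ i, ∃ s : Γ(M, ⊤), IsO (dI (ys A) (a i)) M s) :
    ∃ (L : Fin 3 → B.C.Modules) (s : ∀ i, Γ(L i, ⊤)), (∀ i, IsO (dI (ys B) (a i)) (L i) (s i)) ∧
      ∀ i, Nonempty ((Scheme.Modules.pullback h.top).obj (L i) ≅ M) := by
  choose L s hs using fun i => exists_isO (isEff_dI hB (a i))
  refine ⟨L, s, hs, fun i => ?_⟩
  obtain ⟨σ, hσ⟩ := hM i
  obtain ⟨τ, -⟩ := exists_iso (isEff_dI hA (a i)) (isO_hom hB h (hs i)) hσ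
  exact ⟨τ⟩

end Modules

section Chart

variable {k : Type u} [Field k] {r m n d e : ℕ} {c : CrvChart k (r + m)}

theorem exists_linChart (hst : CurvSt.IsStableFam c.B.f c.B.sect c.B.sect_f 0) (G : LefPen.Form n k d)
    (a : Fin 3 → Fin m → ℕ) (ha : ∀ j, ∃ i, 0 < a i j) (L : Fin 3 → c.C.Modules) (s : ∀ i, Γ(L i, ⊤))
    (hL : ∀ i, IsO (dI (ys c.B) (a i)) (L i) (s i))
    {Ω : Type u} [Field Ω] [IsAlgClosed Ω] (t : Spec (CommRingCat.of Ω) ⟶ c.U.left) {Xt : Scheme.{u}}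
    (i : Xt ⟶ c.C) (q : Xt ⟶ Spec (CommRingCat.of Ω)) (hP : IsPullback i q c.f t)
    (hiso : ∀ j, Nonempty ((Scheme.Modules.pullback i).obj (L j) ≅ (Scheme.Modules.pullback i).obj (L 0)))
    (hdeg : letI : Xt.Over (Spec (CommRingCat.of Ω)) := ⟨q⟩
      Curv2.deg Ω Xt ((Scheme.Modules.pullback i).obj (L 0)) 1 = e) :
    ∃ (c' : CrvChart k (r + m)) (b : c'.B ⟶ c.B) (ℓ : LinChart c' G e), IsOpenImmersion b.base.left ∧
      (∀ (A : CurvSt.PtFamObj (Spec (CommRingCat.of k)) (r + m)) (h : A ⟶ c.B),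
        Set.range h.base.left ⊆ {t (IsLocalRing.closedPoint Ω)} → ∃ h' : A ⟶ c'.B, h' ≫ b = h) ∧
      Nonempty (ℓ.L ≅ (Scheme.Modules.pullback b.top).obj (L 0)) := by
  have hpre := c.isPre
  have hfl := c.isPre.1
  have hpr := c.isPre.2.1
  have hfp := c.isPre.2.2.1
  have hX := hpre.2.2.2 Ω t Xt i q hP
  -- the modules are isomorphic near the point
  choose V hV hVi using fun j => K275.NearIso.exists_iso_of_isPrestablePtd c.f (hL j).inv (hL 0).inv t hP hX (hiso j)
  -- bases near the point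
  obtain ⟨V₁, h₁, ε₁, hV₁, -, hε₁⟩ := BasisNear.exists_isBasis_near hpre (hL 0).inv t i q hP
    (fibre_vanish_one hpre (hL 0) hP).1
  obtain ⟨V₂, h₂, ε₂, hV₂, -, hε₂⟩ := BasisNear.exists_isBasis_near hpre (isInvertible_tensorPow (hL 0).inv d) t i q hP
    (fibre_vanish' hpre (hL 0) hP d)
  obtain ⟨_, ⟨W, hW, rfl⟩, htW, hWV⟩ := c.U.left.isBasis_affineOpens.exists_subset_of_mem_open
    (show t (IsLocalRing.closedPoint Ω) ∈ ((V 0 ⊓ V 1 ⊓ V 2 ⊓ V₁ ⊓ V₂ : c.U.left.Opens) : Set c.U.left) from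
      ⟨⟨⟨⟨hV 0, hV 1⟩, hV 2⟩, hV₁⟩, hV₂⟩) (V 0 ⊓ V 1 ⊓ V 2 ⊓ V₁ ⊓ V₂).isOpen
  have hWj : ∀ j, W ≤ V j := by
    intro j
    fin_cases j
    · exact fun x hx => (hWV hx).1.1.1.1
    · exact fun x hx => (hWV hx).1.1.1.2
    · exact fun x hx => (hWV hx).1.1.2
  have hW₁ : (W : Set c.U.left) ⊆ V₁ := fun x hx => (hWV hx).1.2
  have hW₂ : (W : Set c.U.left) ⊆ V₂ := fun x hx => (hWV hx).2
  obtain ⟨c', b, hb, hbr, hfac⟩ := K314.Restr.exists_restr c W hW
  have hpre' := c'.isPre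
  -- the ranks
  have htr : Set.range t ⊆ (W : Set c.U.left) := by
    rintro _ ⟨x, rfl⟩
    rw [Subsingleton.elim x (IsLocalRing.closedPoint Ω)]
    exact htW
  have hr₁ : h₁ = e + 1 := by
    obtain ⟨ε, hε⟩ := exists_isBasis_of_le hε₁ hP (htr.trans hW₁)
    have h1 := rank_one hpre (hL 0) hP hε
    rw [hdeg] at h1
    exact_mod_cast h1
  have hr₂ : h₂ = d * e + 1 := by
    obtain ⟨ε, hε⟩ := exists_isBasis_of_le hε₂ hP (htr.trans hW₂)
    have h1 := rank_pow hpre (hL 0) hP hε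
    rw [hdeg] at h1
    exact_mod_cast h1
  subst hr₁ hr₂
  -- the module on the restricted chart
  have hL' := isO_hom hpre b (hL 0)
  obtain ⟨ε, hε⟩ := exists_isBasis_of_le hε₁ b.cart (hbr.le.trans hW₁)
  obtain ⟨η, hη⟩ := exists_isBasis_of_le hε₂ b.cart (hbr.le.trans hW₂)
  obtain ⟨τ⟩ := Ega3B.PullTensor.nonempty_pullPowIso b.top (hL 0).inv d
  have hη' : IsBasis c'.f (CohB1.tensorPow ((Scheme.Modules.pullback b.top).obj (L 0)) d) (fun j => τ.hom.app ⊤ (η j)) :=
    IsBasis.iso hη τ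
  have haff := c'.isAffine
  obtain ⟨P, hPP⟩ := K11.LinEqn.exists_eqns c'.f c'.U.hom hL'.inv ε (fun j => τ.hom.app ⊤ (η j)) hη' G
  -- stability
  have hT : Triv3 c.B W (L 0) := K203.KonTriv.triv3_of_stable hst a ha L s hL W fun j =>
    hVi j (c.f ⁻¹ᵁ W).ι fun x => hWj j x.2
  have hT' : Triv3 c'.B ⊤ ((Scheme.Modules.pullback b.top).obj (L 0)) :=
    K203.KonTriv.Triv3.pull hT b (fun x _ => by
      have h1 : b.base.left x ∈ Set.range b.base.left := ⟨x, rfl⟩
      rw [hbr] at h1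
      exact h1) (Iso.refl _)
  refine ⟨c', b,
    { L := (Scheme.Modules.pullback b.top).obj (L 0)
      inv := hL'.inv
      ε := ε
      basis := fun i' f' g' hP' => hε i' f' g' hP'
      deg := ?_
      stab := K203.KonTriv.stab_of_triv3 rfl hT'
      P := P
      P_iff := fun i' f' g' hP' φ => hPP i' f' g' hP' φ }, hb, fun A h hr => hfac A h (hr.trans ?_), ⟨Iso.refl _⟩⟩
  · intro Ω' _ _ t' Xt' i' q' hP'
    have h1 := rank_one hpre' hL' hP' (IsBasis.pull hε hP')
    push_cast at h1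
    linarith
  · intro x hx
    rw [Set.mem_singleton_iff.mp hx]
    exact htW

end Chart

end K723.LinEx
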