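import Groth.Agent.Curves.K326.TreeVan
import Groth.Agent.Curves.K417.NodalDeg
import Groth.Agent.Desc.K390.PnSec
import Groth.Agent.S1518
import Groth.Agent.CurvSt.K903.Facts
import Groth.Agent.Fano.K723.LinDef

/-!
# Invertible modules of nonnegative degrees on trees of rational curves

`X` reduced, connected, proper of dimension one over an algebraically closed field `k` with `H¹(X, O) = 0`.
* `Nef k X L`: the degree of `L` on every component is nonnegative;
* `subsingleton_H1`, `gg`, `finrank_H0`: then `H¹(L) = 0`, `L` is globally generated, `h⁰(L) = deg L + 1`;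
* `nef_of_section`: a module with a section vanishing at closed points only is `Nef`; `Nef.tensorPow`;
* `vanish`: `H¹(L^l) = 0` and `h⁰(L^l) = l deg L + 1` for a module with such a section on a prestable curve of genus zero.
-/

set_option autoImplicit false
universe u
open CategoryTheory CategoryTheory.Limits AlgebraicGeometry TopologicalSpace Opposite

namespace K723.MapCoh1

open Groth.Agent.CurvesC.TailGeom Groth.Agent.CurvesB Groth.Agent.CurvesC Groth.Agent
open Groth.Agent.CurvesC.TailNum Groth.Agent.CurvesC.DegIso Groth.Agent.CurvesC.TailComp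
open Groth.Agent.Fdesc.LocGen

attribute [local instance] subOver

theorem ne_zero_of_mem_genLocus {X : Scheme.{u}} {L : X.Modules} (s : Coh.structureModule X ⟶ L) {x : X}
    (hx : x ∈ CohB1.genLocus L s) : sec s ⊤ ≠ 0 := by
  intro h0
  have h1 := isGen_sec_genLocus s
  rw [← res_sec s (le_top : CohB1.genLocus L s ≤ ⊤), h0, map_zero] at h1
  have : Nonempty (CohB1.genLocus L s) := ⟨⟨x, hx⟩⟩
  have h2 : (1 : Γ(X, CohB1.genLocus L s)) = 0 := h1.ext (by rw [smul_zero, smul_zero])
  exact one_ne_zero h2

variable (k : Type u) [Field k] [IsAlgClosed k] (X : Scheme.{u}) [X.Over (Spec (CommRingCat.of k))]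
  [IsProper (X ↘ (Spec (CommRingCat.of k)))]

omit [IsAlgClosed k] in
theorem genus_sub_eq_zero (hdim : topologicalKrullDim X ≤ 1) (hg : Curv2.genus k X = 0)
    (J : X.IdealSheafData) : Curv2.genus k J.subscheme = 0 :=
  Nat.le_zero.mp ((K326.SemiStab.genus_sub_le k X hdim J).trans_eq hg)

/-- The degree of `L` on every component is nonnegative. -/
def Nef (L : X.Modules) : Prop :=
  ∀ (C : Set X) (hC : C ∈ irreducibleComponents (X : Type u)),
    0 ≤ Curv2.deg k (compIdeal C hC).subscheme ((Scheme.Modules.pullback (compIdeal C hC).subschemeι).obj L) 1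

variable {k X} in
omit [IsAlgClosed k] in
theorem Nef.nonneg_sub (hdim : topologicalKrullDim X ≤ 1) {L : X.Modules} (hL : PicF.IsInvertible L)
    (h : Nef k X L) (J : X.IdealSheafData) :
    0 ≤ Curv2.deg k J.subscheme ((Scheme.Modules.pullback J.subschemeι).obj L) 1 := by
  by_contra hcon
  obtain ⟨C, hC, -, -, hneg⟩ := exists_component_neg k X hdim J L hL (not_le.mp hcon)
  exact absurd (h C hC) (not_le.mpr hneg)

variable [IsReduced X] [ConnectedSpace X]

theorem subsingleton_H1 (hdim : topologicalKrullDim X = 1) (hg : Curv2.genus k X = 0) {L : X.Modules}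
    (hL : PicF.IsInvertible L) (h : Nef k X L) : Subsingleton (Coh.HH X L 1) := by
  by_contra hcon
  rw [not_subsingleton_iff_nontrivial] at hcon
  obtain ⟨J, hJr, hJc, hJ1, hle⟩ := K326.TreeVan.exists_sub_of_H1 k X hdim L hL hcon
  have h0 := h.nonneg_sub hdim.le hL J
  rw [genus_sub_eq_zero k X hdim.le hg J] at hle
  push_cast at hle
  linarith

omit [IsAlgClosed k] in
theorem gg (hdim : topologicalKrullDim X = 1) (hg : Curv2.genus k X = 0) {L : X.Modules}
    (hL : PicF.IsInvertible L) (h : Nef k X L) : Curv2.IsGloballyGenerated L := by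
  apply Groth.Agent.S1606.result k X hdim _ hL
  intro J hJr hJc hJ1
  change 2 * (Curv2.genus k J.subscheme : ℤ) ≤
    Curv2.deg k J.subscheme ((Scheme.Modules.pullback J.subschemeι).obj L) 1
  rw [genus_sub_eq_zero k X hdim.le hg J]
  have h0 := h.nonneg_sub hdim.le hL J
  push_cast
  linarith

theorem finrank_H0 (hdim : topologicalKrullDim X = 1) (hg : Curv2.genus k X = 0) {L : X.Modules}
    (hL : PicF.IsInvertible L) (h : Nef k X L) :
    (Module.finrank k (Coh.HH X L 0) : ℤ) = Curv2.deg k X L 1 + 1 := by
  have hN := Groth.Agent.VarietyB.DegFin.isNoetherian_of_isProper k X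
  have h1 := subsingleton_H1 k X hdim hg hL h
  have h2 : Module.finrank k (Coh.HH X L 1) = 0 := Module.finrank_zero_of_subsingleton
  have h3 : Module.finrank k (Coh.HH X (Coh.structureModule X) 0) = 1 := K326.DegPts.finrank_zero k X
  have h4 : Module.finrank k (Coh.HH X (Coh.structureModule X) 1) = 0 := hg
  unfold Curv2.deg
  rw [CurveCoh.euler_eq k X hdim, CurveCoh.euler_eq k X hdim, h2, h3, h4]
  push_cast
  ring

omit [IsAlgClosed k] [IsReduced X] [ConnectedSpace X] in
/-- A section which vanishes at closed points only gives nonnegative degrees. -/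
theorem nef_of_section (hpure : ∀ C ∈ irreducibleComponents (X : Type u), topologicalKrullDim C = 1) {L : X.Modules}
    (hL : PicF.IsInvertible L) (s : Γ(L, ⊤)) (hs : ∀ x, x ∉ CohB1.genLocus L (homOf s) → IsClosed ({x} : Set X)) :
    Nef k X L := by
  intro C hC
  have hirr := irreducible_comp C hC
  have hred : IsReduced (compIdeal C hC).subscheme := inferInstance
  have hint : IsIntegral (compIdeal C hC).subscheme := isIntegral_of_irreducibleSpace_of_isReduced _
  have hP : IsProper ((compIdeal C hC).subscheme ↘ Spec (CommRingCat.of k)) :=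
    inferInstanceAs (IsProper ((compIdeal C hC).subschemeι ≫ (X ↘ (Spec (CommRingCat.of k)))))
  have hd := K326.SemiStab.dim_comp X hC (hpure C hC)
  set ι := (compIdeal C hC).subschemeι with hι
  set ζ := genericPoint (compIdeal C hC).subscheme with hζ
  have h1 : ι ζ ∈ CohB1.genLocus L (homOf s) := by
    by_contra hcon
    have hcl : IsClosed ({ζ} : Set (compIdeal C hC).subscheme) := by
      have h2 : ({ζ} : Set (compIdeal C hC).subscheme) = ι ⁻¹' {ι ζ} := by
        ext z
        simp only [Set.mem_singleton_iff, Set.mem_preimage]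
        exact ⟨fun h => by rw [h], fun h => ι.isClosedEmbedding.injective h⟩
      rw [h2]
      exact (hs _ hcon).preimage ι.continuous
    have huniv : (Set.univ : Set (compIdeal C hC).subscheme) = {ζ} := by
      rw [← hcl.closure_eq]
      exact (genericPoint_closure _).symm
    have hsub : Subsingleton (compIdeal C hC).subscheme := ⟨fun a b => by
      have ha : a ∈ ({ζ} : Set (compIdeal C hC).subscheme) := huniv ▸ Set.mem_univ a
      have hb : b ∈ ({ζ} : Set (compIdeal C hC).subscheme) := huniv ▸ Set.mem_univ b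
      rw [Set.mem_singleton_iff.mp ha, Set.mem_singleton_iff.mp hb]⟩
    have h3 : topologicalKrullDim (compIdeal C hC).subscheme ≤ 0 := by
      have : Subsingleton (IrreducibleCloseds (compIdeal C hC).subscheme) := by
        refine ⟨fun A B => ?_⟩
        have hA : ∀ D : IrreducibleCloseds (compIdeal C hC).subscheme,
            (D : Set (compIdeal C hC).subscheme) = Set.univ := fun D => by
          obtain ⟨c, hc⟩ := D.isIrreducible.nonempty
          exact Set.eq_univ_of_forall fun d => (Subsingleton.elim c d) ▸ hc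
        exact SetLike.coe_injective ((hA A).trans (hA B).symm)
      exact Order.krullDim_nonpos_of_subsingleton
    rw [hd] at h3
    exact absurd h3 (by decide)
  have h4 : ζ ∈ CohB1.genLocus ((Scheme.Modules.pullback ι).obj L) (homOf (pullTop ι s)) := by
    rw [K390.PnSec.genLocus_pullTop ι hL s]
    exact h1
  have h5 : homOf (pullTop ι s) ≠ 0 := by
    intro h0
    apply ne_zero_of_mem_genLocus _ h4
    rw [h0]
    rfl
  exact Groth.Agent.S1518.result k _ hd _ (isInvertible_pullback ι hL) _ h5

omit [IsAlgClosed k] [IsReduced X] [ConnectedSpace X] in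
variable {k X} in
theorem Nef.tensorPow (hdim : topologicalKrullDim X ≤ 1) {L : X.Modules} (hL : PicF.IsInvertible L)
    (h : Nef k X L) (m : ℕ) : Nef k X (CohB1.tensorPow L m) := by
  intro C hC
  have hd : topologicalKrullDim (compIdeal C hC).subscheme ≤ 1 :=
    ((compIdeal C hC).subschemeι.isClosedEmbedding.isInducing.topologicalKrullDim_le).trans hdim
  rw [CanonGG.deg_restrict_pow k X L hL (compIdeal C hC) hd m]
  exact mul_nonneg (Nat.cast_nonneg _) (h C hC)

end K723.MapCoh1

namespace K723.MapCoh1

open Groth.Agent Groth.Agent.Fdesc.LocGen Groth.Agent.CurvesC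

/-- Node F1: `H¹ = 0` and `h⁰ = deg + 1` for the powers of a module with a section whose zeros are closed points. -/
theorem vanish {Ω : Type u} [Field Ω] [IsAlgClosed Ω] {X : Scheme.{u}} {q : X ⟶ Spec (CommRingCat.of Ω)} {r : ℕ}
    {p : Fin r → X} (hX : StMap.IsPrestablePtd Ω X q 0 p) {L : X.Modules} (hL : PicF.IsInvertible L) (s : Γ(L, ⊤))
    (hs : ∀ x, x ∉ CohB1.genLocus L (homOf s) → IsClosed ({x} : Set X)) (l : ℕ) :
    letI : X.Over (Spec (CommRingCat.of Ω)) := ⟨q⟩
    Subsingleton (Coh.HH X (CohB1.tensorPow L l) 1) ∧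
      (Module.finrank Ω (Coh.HH X (CohB1.tensorPow L l) 0) : ℤ) = l * Curv2.deg Ω X L 1 + 1 := by
  obtain ⟨hp, hc, hd, ⟨hn, hg⟩, -⟩ := hX
  let _ : X.Over (Spec (CommRingCat.of Ω)) := ⟨q⟩
  have hp' : IsProper (X ↘ Spec (CommRingCat.of Ω)) := hp
  have hred := K903.Facts.isReduced Ω X hn
  have hpure := K903.Facts.equi Ω X hd hn
  have hnef := (nef_of_section Ω X hpure hL s hs).tensorPow hd.le hL l
  have hLl := isInvertible_tensorPow hL l
  refine ⟨subsingleton_H1 Ω X hd hg hLl hnef, ?_⟩
  rw [finrank_H0 Ω X hd hg hLl hnef, CanonGG.deg_pow Ω X hd.le hL]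

end K723.MapCoh1
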