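import Groth.Agent.Fano.K203.KonTriv
import Groth.Agent.Fano.K723.BasisKit
import Groth.Agent.Fano.K723.MapCoh1
import Groth.Agent.Ega3B.PullTensor

/-!
# The fibres of the module of a divisor of sections (S16940)

* `fibre_vanish`, `fibre_vanish_one`: `H¹` of the powers of `O(Σ a_j y_j)` on the geometric fibres vanishes, `h⁰ = l deg + 1`;
* `rank_pow`, `rank_one`: the number of elements of a basis of the sections.
-/

set_option autoImplicit false
universe u

open CategoryTheory CategoryTheory.Limits AlgebraicGeometry TopologicalSpace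

namespace K723.LinFib

open Groth.Agent Groth.Agent.Fdesc.LocGen K390.PnSec K505.KonDef K723.LinDef K723.BasisLoc K723.BasisKit K652.QPRf

section

variable {S : Scheme.{u}} {r m : ℕ} {A : CurvSt.PtFamObj S (r + m)} {a : Fin m → ℕ} {L : A.C.Modules} {s : Γ(L, ⊤)}
  {Ω : Type u} [Field Ω] [IsAlgClosed Ω] {t : Spec (CommRingCat.of Ω) ⟶ A.base.left} {Xt : Scheme.{u}} {i : Xt ⟶ A.C}
  {q : Xt ⟶ Spec (CommRingCat.of Ω)}

/-- The zeros of the section on a geometric fibre are closed points. -/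
theorem isClosed_zero (hA : IsPre A) (hs : IsO (dI (ys A) a) L s) (hP : IsPullback i q A.f t) (x : Xt)
    (hx : x ∉ CohB1.genLocus ((Scheme.Modules.pullback i).obj L) (homOf (pullTop i s))) :
    IsClosed ({x} : Set Xt) := by
  have hX := hA.2.2.2 Ω t Xt i q hP
  have hp := hA.2.1
  rw [genLocus_pullTop i hs.inv] at hx
  have h1 : ¬ ∀ j, 0 < a j → i x ∉ Set.range (ys A j) := fun h =>
    hx ((K203.KonTriv.mem_genLocus_dI A.f (fun j => A.sect_f _) hs (i x)).2 h)
  push Not at h1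
  obtain ⟨j, -, hj⟩ := h1
  rw [K203.KonStab.eq_markedPt A.sect_f hP (Fin.natAdd r j) x hj]
  exact (hX.2.2.2.2.2 _).1

theorem fibre_vanish (hA : IsPre A) (hs : IsO (dI (ys A) a) L s) (hP : IsPullback i q A.f t) (l : ℕ) :
    letI : Xt.Over (Spec (CommRingCat.of Ω)) := ⟨q⟩
    Subsingleton (Coh.HH Xt (CohB1.tensorPow ((Scheme.Modules.pullback i).obj L) l) 1) ∧
      (Module.finrank Ω (Coh.HH Xt (CohB1.tensorPow ((Scheme.Modules.pullback i).obj L) l) 0) : ℤ) =
        l * Curv2.deg Ω Xt ((Scheme.Modules.pullback i).obj L) 1 + 1 :=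
  MapCoh1.vanish (hA.2.2.2 Ω t Xt i q hP) (isInvertible_pullback i hs.inv) (pullTop i s)
    (fun x hx => isClosed_zero hA hs hP x hx) l

theorem fibre_vanish_one (hA : IsPre A) (hs : IsO (dI (ys A) a) L s) (hP : IsPullback i q A.f t) :
    letI : Xt.Over (Spec (CommRingCat.of Ω)) := ⟨q⟩
    Subsingleton (Coh.HH Xt ((Scheme.Modules.pullback i).obj L) 1) ∧
      (Module.finrank Ω (Coh.HH Xt ((Scheme.Modules.pullback i).obj L) 0) : ℤ) =
        Curv2.deg Ω Xt ((Scheme.Modules.pullback i).obj L) 1 + 1 := by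
  obtain ⟨hp, hc, hd, ⟨hn, hg⟩, -⟩ := hA.2.2.2 Ω t Xt i q hP
  let _ : Xt.Over (Spec (CommRingCat.of Ω)) := ⟨q⟩
  have hp' : IsProper (Xt ↘ Spec (CommRingCat.of Ω)) := hp
  have hred := K903.Facts.isReduced Ω Xt hn
  have hpure := K903.Facts.equi Ω Xt hd hn
  have hL := isInvertible_pullback i hs.inv
  have hnef := MapCoh1.nef_of_section Ω Xt hpure hL (pullTop i s) (fun x hx => isClosed_zero hA hs hP x hx)
  exact ⟨MapCoh1.subsingleton_H1 Ω Xt hd hg hL hnef, MapCoh1.finrank_H0 Ω Xt hd hg hL hnef⟩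

/-- `H¹` of the pullback of a power. -/
theorem fibre_vanish' (hA : IsPre A) (hs : IsO (dI (ys A) a) L s) (hP : IsPullback i q A.f t) (l : ℕ) :
    Subsingleton (Coh.HH Xt ((Scheme.Modules.pullback i).obj (CohB1.tensorPow L l)) 1) := by
  obtain ⟨τ⟩ := Ega3B.PullTensor.nonempty_pullPowIso i hs.inv l
  exact subsingleton_HH_of_iso τ.symm 1 (fibre_vanish hA hs hP l).1

theorem rank_one (hA : IsPre A) (hs : IsO (dI (ys A) a) L s) (hP : IsPullback i q A.f t) {h : ℕ}
    {ε : Fin h → Γ((Scheme.Modules.pullback i).obj L, ⊤)} (hε : IsBasis q ((Scheme.Modules.pullback i).obj L) ε) :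
    letI : Xt.Over (Spec (CommRingCat.of Ω)) := ⟨q⟩
    (h : ℤ) = Curv2.deg Ω Xt ((Scheme.Modules.pullback i).obj L) 1 + 1 := by
  have h1 := finrank_of_coords q (IsBasis.coords hε)
  rw [← (fibre_vanish_one hA hs hP).2, h1]

theorem rank_pow (hA : IsPre A) (hs : IsO (dI (ys A) a) L s) (hP : IsPullback i q A.f t) {h l : ℕ}
    {ε : Fin h → Γ((Scheme.Modules.pullback i).obj (CohB1.tensorPow L l), ⊤)}
    (hε : IsBasis q ((Scheme.Modules.pullback i).obj (CohB1.tensorPow L l)) ε) :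
    letI : Xt.Over (Spec (CommRingCat.of Ω)) := ⟨q⟩
    (h : ℤ) = l * Curv2.deg Ω Xt ((Scheme.Modules.pullback i).obj L) 1 + 1 := by
  obtain ⟨τ⟩ := Ega3B.PullTensor.nonempty_pullPowIso i hs.inv l
  have h1 := finrank_of_coords q (IsBasis.coords (IsBasis.iso hε τ))
  rw [← (fibre_vanish hA hs hP l).2, h1]

end

end K723.LinFib
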