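import Groth.Agent.Fano.K723.LinDef
import Groth.Prelude.Def_BlowUp2

/-!
# Plan for the linear charts (S16940, stack side)

All `sorry`s of this file are nodes; do not import this file in a row.  Definitions: `K505.KonDef`, `K723.LinDef`.
-/

set_option autoImplicit false

universe u

open CategoryTheory CategoryTheory.Limits AlgebraicGeometry

namespace K723.PlanL

open K390.PnSec Groth.Agent.Fdesc.LocGen K188.LineDef K745.ConDef K505.KonDef K723.LinDef W4swstmapratcurves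

/-! ## O : the modules `O(D)` -/

section OD

variable {C C' T T' : Scheme.{u}} {D : C.IdealSheafData} {L L' : C.Modules} {s : Γ(L, ⊤)} {s' : Γ(L', ⊤)}

/-- Node O1 (dual of `ClSub.idealMod D`). -/
theorem exists_isO (hD : BlowUp.IsEffCartierIdeal D) : ∃ (L : C.Modules) (s : Γ(L, ⊤)), IsO D L s := by
  sorry

/-- Node O2. -/
theorem exists_iso (hD : BlowUp.IsEffCartierIdeal D) (h : IsO D L s) (h' : IsO D L' s') :
    ∃ τ : L ≅ L', τ.hom.app ⊤ s = s' := by
  sorry

/-- Node O3. -/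
theorem isO_pullback (h : IsO D L s) (i : C' ⟶ C) :
    IsO (D.comap i) ((Scheme.Modules.pullback i).obj L) (pullTop i s) := by
  sorry

/-- Node O4. -/
theorem mem_genLocus_iff (h : IsO D L s) (x : C) :
    x ∈ CohB1.genLocus L (homOf s) ↔ x ∉ (D.support : Set C) := by
  sorry

/-- Node O5. -/
theorem comap_dI {f : C ⟶ T} [IsSeparated f] {i : C' ⟶ C} {f' : C' ⟶ T'} {g : T' ⟶ T} (hP : IsPullback i f' f g)
    {m : ℕ} (y : Fin m → (T ⟶ C)) (hy : ∀ j, y j ≫ f = 𝟙 T) (y' : Fin m → (T' ⟶ C')) (hy' : ∀ j, y' j ≫ f' = 𝟙 T')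
    (hc : ∀ j, y' j ≫ i = g ≫ y j) (a : Fin m → ℕ) : (dI y a).comap i = dI y' a := by
  sorry

/-- Node O6. -/
theorem mem_support_dI (f : C ⟶ T) [IsSeparated f] {m : ℕ} (y : Fin m → (T ⟶ C)) (hy : ∀ j, y j ≫ f = 𝟙 T)
    (a : Fin m → ℕ) (x : C) : x ∈ ((dI y a).support : Set C) ↔ ∃ j, 0 < a j ∧ x ∈ Set.range (y j) := by
  sorry

/-- Node O7 (compare `K333.SecDiv.isEff_ker`, `isEff_prod`). -/
theorem isEff_dI {S : Scheme.{u}} {r m : ℕ} {A : CurvSt.PtFamObj S (r + m)} (hA : IsPre A) (a : Fin m → ℕ) :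
    BlowUp.IsEffCartierIdeal (dI (ys A) a) := by
  sorry

end OD

/-! ## F : fields -/

section Fields

variable {Ω : Type u} [Field Ω] [IsAlgClosed Ω] {X : Scheme.{u}} {q : X ⟶ Spec (CommRingCat.of Ω)} {r m : ℕ}
  {p : Fin r → X}

/-- Node F1: `H¹ = 0` and `h⁰ = deg + 1` for a module with a section whose zeros are closed points. -/
theorem vanish_of_isO (hX : StMap.IsPrestablePtd Ω X q 0 p) {D : X.IdealSheafData} {L : X.Modules} {s : Γ(L, ⊤)}
    (h : IsO D L s) (hD : ∀ x ∈ (D.support : Set X), IsClosed ({x} : Set X)) (l : ℕ) :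
    letI : X.Over (Spec (CommRingCat.of Ω)) := ⟨q⟩
    Subsingleton (Coh.HH X (CohB1.tensorPow L l) 1) ∧
      (Module.finrank Ω (Coh.HH X (CohB1.tensorPow L l) 0) : ℤ) = l * Curv2.deg Ω X L 1 + 1 := by
  sorry

end Fields

/-! ## B : cohomology and base change -/

section Base

variable {S : Scheme.{u}} {N : ℕ} {A : CurvSt.PtFamObj S N}

/-- Node B1. -/
theorem exists_iso_near (hA : IsPre A) {M M' : A.C.Modules} (hM : PicF.IsInvertible M) (hM' : PicF.IsInvertible M')
    {Ω : Type u} [Field Ω] [IsAlgClosed Ω] (t : Spec (CommRingCat.of Ω) ⟶ A.base.left) {Xt : Scheme.{u}}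
    (i : Xt ⟶ A.C) (q : Xt ⟶ Spec (CommRingCat.of Ω)) (hP : IsPullback i q A.f t)
    (e : Nonempty ((Scheme.Modules.pullback i).obj M ≅ (Scheme.Modules.pullback i).obj M')) :
    ∃ V : A.base.left.Opens, t (IsLocalRing.closedPoint Ω) ∈ V ∧
      Nonempty ((Scheme.Modules.pullback (A.f ⁻¹ᵁ V).ι).obj M ≅ (Scheme.Modules.pullback (A.f ⁻¹ᵁ V).ι).obj M') := by
  sorry

/-- Node B2. -/
theorem exists_isBasis_near (hA : IsPre A) {L : A.C.Modules} (hL : PicF.IsInvertible L)
    {Ω : Type u} [Field Ω] [IsAlgClosed Ω] (t : Spec (CommRingCat.of Ω) ⟶ A.base.left) {Xt : Scheme.{u}}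
    (i : Xt ⟶ A.C) (q : Xt ⟶ Spec (CommRingCat.of Ω)) (hP : IsPullback i q A.f t)
    (h1 : Subsingleton (Coh.HH Xt ((Scheme.Modules.pullback i).obj L) 1)) :
    ∃ (V : A.base.left.Opens) (h : ℕ) (ε : Fin h → Γ((Scheme.Modules.pullback (A.f ⁻¹ᵁ V).ι).obj L, ⊤)),
      t (IsLocalRing.closedPoint Ω) ∈ V ∧ IsAffineOpen V ∧
        IsBasis (A.f ∣_ V) ((Scheme.Modules.pullback (A.f ⁻¹ᵁ V).ι).obj L) ε := by
  sorry

/-- Node B3: the equations of the linear combinations at which a form vanishes. -/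
theorem exists_equations {C T : Scheme.{u}} (f : C ⟶ T) {L : C.Modules} (hL : PicF.IsInvertible L) {n d e p : ℕ}
    {ε : Fin (e + 1) → Γ(L, ⊤)} (hε : IsBasis f L ε) {η : Fin p → Γ(CohB1.tensorPow L d, ⊤)}
    (hη : IsBasis f (CohB1.tensorPow L d) η) (F : MvPolynomial (Fin (n + 1)) Γ(T, ⊤)) (hF : F.IsHomogeneous d) :
    ∃ P : Fin p → MvPolynomial (Fin (n + 1) × Fin (e + 1)) Γ(T, ⊤),
      ∀ {T' C' : Scheme.{u}} (i : C' ⟶ C) (f' : C' ⟶ T') (g : T' ⟶ T), IsPullback i f' f g →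
        ∀ φ : Fin (n + 1) → Fin (e + 1) → Γ(T', ⊤),
          Van f' (lc f' (fun j => pullTop i (ε j)) φ) (F.map g.appTop.hom) ↔
            ∀ l, MvPolynomial.eval₂ g.appTop.hom (fun x => φ x.1 x.2) (P l) = 0 := by
  sorry

end Base

/-! ## C : restriction of a chart -/

section Charts

variable {k : Type u} [Field k] {N : ℕ}

/-- Node C1. -/
theorem exists_restr (c : CrvChart k N) (V : c.U.left.Opens) (hV : IsAffineOpen V) :
    ∃ (c' : CrvChart k N) (b : c'.B ⟶ c.B), IsOpenImmersion b.base.left ∧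
      Set.range b.base.left = (V : Set c.U.left) ∧
      ∀ (A : CurvSt.PtFamObj (Spec (CommRingCat.of k)) N) (h : A ⟶ c.B), Set.range h.base.left ⊆ (V : Set c.U.left) →
        ∃ h' : A ⟶ c'.B, h' ≫ b = h := by
  sorry

end Charts

/-! ## M : markings of a stable map over a field, and stability nearby -/

section Marks

variable {k : Type u} [Field k] {n d r e : ℕ} {G : LefPen.Form n k d}

/-- Node M1: three hyperplane sections of a stable map over an algebraically closed field, with disjoint supports, away from the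
nodes and the marked points; `y` is the list of their points, `a i j` the multiplicities. -/
theorem exists_marks (A : (Mst G r e).obj) {Ω : Type u} [Field Ω] [IsAlgClosed Ω]
    (s : Spec (CommRingCat.of Ω) ⟶ Spec (CommRingCat.of k)) (hA : A.obj.base = Over.mk s) (hr : 1 ≤ e) :
    ∃ (m : ℕ) (y : Fin m → (A.obj.base.left ⟶ A.obj.C)) (hy : ∀ j, y j ≫ A.obj.f = 𝟙 A.obj.base.left)
      (a : Fin 3 → Fin m → ℕ),
      CurvSt.IsStableFam (addM A.obj.toPtFamObj y hy).f (addM A.obj.toPtFamObj y hy).sect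
        (addM A.obj.toPtFamObj y hy).sect_f 0 ∧
      (∀ j, ∃ i, 0 < a i j) ∧
      ∀ i, ∃ s : Γ((Scheme.Modules.pullback (A.obj.map ≫ (LefPen.hypIdeal G).subschemeι)).obj (O1 n k), ⊤),
        IsO (dI y (a i)) _ s := by
  sorry

/-- Node M2 (`K333.StableOpen` and B1): near a point at which the pointed curve is stable and the three modules are
isomorphic, every component on which they are trivial has three special points. -/
theorem triv3_near {S : Scheme.{u}} {m : ℕ} {A : CurvSt.PtFamObj S (r + m)} (hA : IsPre A) (a : Fin 3 → Fin m → ℕ)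
    (ha : ∀ j, ∃ i, 0 < a i j) (L : Fin 3 → A.C.Modules) (s : ∀ i, Γ(L i, ⊤))
    (hL : ∀ i, IsO (dI (ys A) (a i)) (L i) (s i))
    {Ω : Type u} [Field Ω] [IsAlgClosed Ω] (t : Spec (CommRingCat.of Ω) ⟶ A.base.left) {Xt : Scheme.{u}}
    (i : Xt ⟶ A.C) (q : Xt ⟶ Spec (CommRingCat.of Ω)) (hP : IsPullback i q A.f t)
    (hst : CurvSt.IsStablePtd Ω Xt q 0 (CurvSt.markedPt A.sect A.sect_f hP))
    (hiso : ∀ j, Nonempty ((Scheme.Modules.pullback i).obj (L j) ≅ (Scheme.Modules.pullback i).obj (L 0))) :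
    ∃ V : A.base.left.Opens, t (IsLocalRing.closedPoint Ω) ∈ V ∧ Triv3 A V (L 0) := by
  sorry

end Marks

end K723.PlanL
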